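import Cfsg.Agent.H135.TE.Base
import Cfsg.Agent.H511.TE.LA2

/-!
# S5261, part E: `Z3 ≤ E < Q2`, `p` odd: `E` is of line type (helper135)
-/

set_option autoImplicit false
set_option linter.unusedSectionVars false

namespace Cfsg.Agent.H135.TE

open Cfsg Cfsg.FusionSystem Cfsg.Agent.H756.PU
open Cfsg.Agent.H765.D3 Cfsg.Agent.H765.D3.Sy
open Cfsg.Agent.Hex.Defs (sh cr nm tr)
open Cfsg.Agent.H802.TE Cfsg.Agent.H511.TE
open scoped commutatorElement

universe u

section Model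

variable {F K : Type u} [Field F] [Field K] [Algebra F K] {φ : K ≃ₐ[F] K} [Cub φ]

theorem comm_Q2_mem {x y : Sy φ} (hx : x ∈ Q2 φ) (hy : y ∈ Q2 φ) : ⁅x, y⁆ ∈ Z3 φ :=
  ⟨comm_x1 x y, comm_x6 x y, by
    rw [mem_Q2] at hx hy
    rw [comm_x5, hx, hy, zero_smul, zero_smul, sub_zero]⟩

theorem comm_Q2_x3 {x y : Sy φ} (hx : x ∈ Q2 φ) (hy : y ∈ Q2 φ) :
    (⁅x, y⁆).x3 = cr φ x.x1 y.x5 - cr φ y.x1 x.x5 := by
  have h3 := comm_Q2_mem hx hy
  rw [mem_Q2] at hx hy
  have h := congrArg Sy.x3 (comm_mul x y)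
  rw [mul_x3, mul_x3, mul_x3, h3.1, mul_x6, hx, hy] at h
  simp only [cr_zero_left, sh_zero, smul_zero, zero_smul, add_zero] at h
  linear_combination -h

/-- a subgroup `P` containing the commutators of `E` (not of line type, `Z3 ≤ E ≤ Q2`) contains `Z2` -/
theorem Z2_le_of_not_line {E P : Subgroup (Sy φ)} (hP : ∀ x ∈ E, ∀ y ∈ E, ⁅x, y⁆ ∈ P) (h3 : Z3 φ ≤ E)
    (hE : E ≤ Q2 φ) (hl : ¬ Line E) : Z2 φ ≤ P := by
  let T (v : F × F) : Sy φ := ⟨0, 0, 0, 0, v.1, v.2⟩
  have hT : ∀ v w, T (v + w) = T v * T w := fun v w => by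
    ext
    · rw [mul_x1]; simp [T]
    · rw [mul_x6]; simp [T]
    · rw [mul_x5]; simp [T]
    · rw [mul_x3]; simp [T, cr]
    · rw [mul_x2]; simp [T, tr_zero]
    · rw [mul_x4]; simp [T, tr_zero]
  let W : Submodule F (F × F) :=
    { carrier := {v | ∀ s : F, T (s • v) ∈ P}
      add_mem' := fun {v w} hv hw s => by
        rw [smul_add, hT]
        exact mul_mem (hv s) (hw s)
      zero_mem' := fun s => by
        rw [smul_zero]
        have : T 0 = 1 := rfl
        rw [this]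
        exact one_mem _
      smul_mem' := fun c v hv s => by
        rw [smul_smul]
        exact hv _ }
  have hW : ∀ x ∈ E, ∀ b : K, (tr φ (x.x1 * b), -tr φ (b * x.x5)) ∈ W := fun x hx b s => by
    have h1 := hP x hx (u3 φ (s • b)) (h3 (u3_mem _))
    have h6 : x.x6 = 0 := hE hx
    have h2 : ⁅x, u3 φ (s • b)⁆ = T (s • (tr φ (x.x1 * b), -tr φ (b * x.x5))) := by
      have h4 := comm_mem_Z2 (x := x) (u3_mem (φ := φ) (s • b))
      ext
      · exact h4.1
      · exact h4.2.1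
      · exact h4.2.2.1
      · exact h4.2.2.2
      · rw [comm_x2' (u3_mem _)]
        show tr φ (x.x1 * (s • b)) = s * tr φ (x.x1 * b)
        rw [mul_smul_comm, tr_smul]
      · rw [comm_x4' (u3_mem _), h6, zero_mul, zero_mul, zero_sub, add_zero]
        show -tr φ ((s • b) * x.x5) = s * -tr φ (b * x.x5)
        rw [smul_mul_assoc, tr_smul, mul_neg]
    rw [← h2]
    exact h1
  have htop : W = ⊤ := by
    by_contra hne
    obtain ⟨f, hf, hf2⟩ := Submodule.exists_le_ker_of_lt_top W (lt_top_iff_ne_top.2 hne)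
    have hfv : ∀ a b : F, f (a, b) = f (1, 0) * a + f (0, 1) * b := fun a b => by
      have e : ((a, b) : F × F) = a • ((1, 0) : F × F) + b • ((0, 1) : F × F) := by
        ext <;> simp
      rw [e, map_add, map_smul, map_smul, smul_eq_mul, smul_eq_mul]
      ring
    apply hl
    refine ⟨f (1, 0), -f (0, 1), ?_, fun x hx => ?_⟩
    · by_contra hcon
      push Not at hcon
      apply hf
      apply LinearMap.ext
      rintro ⟨a, b⟩
      rw [hfv, hcon.1, neg_eq_zero.1 hcon.2, zero_mul, zero_mul, add_zero]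
      rfl
    · apply tr_nondeg φ
      intro b
      have h1 : f (tr φ (x.x1 * b), -tr φ (b * x.x5)) = 0 := hf2 (hW x hx b)
      rw [hfv] at h1
      rw [add_mul, tr_add, smul_mul_assoc, smul_mul_assoc, tr_smul, tr_smul, mul_comm x.x5 b]
      linear_combination h1
  intro x hx
  have h1 : ((x.x2, x.x4) : F × F) ∈ W := by rw [htop]; exact Submodule.mem_top
  have h2 := h1 1
  rw [one_smul] at h2
  have h3 : x = T (x.x2, x.x4) := by
    ext
    exacts [hx.1, hx.2.1, hx.2.2.1, hx.2.2.2, rfl, rfl]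
  rw [h3]
  exact h2

/-- a pairing `(a, c), (a', c') ↦ λ (a × c' - a' × c)` with `λ ≠ 0` on `K × K` is nondegenerate, `p` odd -/
theorem iso_cr {p : ℕ} [Fact p.Prime] [CharP K p] [Finite K] (h2 : (2 : K) ≠ 0) (B : AddSubgroup K) (hB : B ≠ ⊤)
    (D : AddSubgroup (K × K)) (h : ∀ v ∈ D, ∀ w ∈ D, cr φ v.1 w.2 - cr φ w.1 v.2 ∈ B) :
    Nat.card D ≤ Nat.card K := by
  let _ : Algebra (ZMod p) K := ZMod.algebra K p
  let B' : Submodule (ZMod p) K := AddSubgroup.toZModSubmodule p B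
  have hB' : B' < ⊤ := by
    rw [lt_top_iff_ne_top]
    intro e
    apply hB
    rw [eq_top_iff]
    intro x _
    have : x ∈ B' := by rw [e]; exact Submodule.mem_top
    exact this
  obtain ⟨f, hf, hf2⟩ := Submodule.exists_le_ker_of_lt_top B' hB'
  have cl : ∀ (c : ZMod p) (a b : K), cr φ (c • a) b = c • cr φ a b := fun c a b =>
    ZMod.map_smul (AddMonoidHom.mk' (fun a : K => cr φ a b) fun a a' => cr_add_left φ a a' b) c a
  have crr : ∀ (c : ZMod p) (a b : K), cr φ a (c • b) = c • cr φ a b := fun c a b =>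
    ZMod.map_smul (AddMonoidHom.mk' (fun b : K => cr φ a b) fun b b' => cr_add_right φ a b b') c b
  let g : (K × K) →ₗ[ZMod p] (K × K) →ₗ[ZMod p] ZMod p :=
    LinearMap.mk₂ (ZMod p) (fun v w => f (cr φ v.1 w.2 - cr φ w.1 v.2))
      (fun v v' w => by
        rw [← map_add]
        congr 1
        rw [Prod.fst_add, Prod.snd_add, cr_add_left, cr_add_right]
        ring)
      (fun c v w => by
        rw [← map_smul]
        congr 1
        rw [Prod.smul_fst, Prod.smul_snd, cl, crr, smul_sub])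
      (fun v w w' => by
        rw [← map_add]
        congr 1
        rw [Prod.fst_add, Prod.snd_add, cr_add_left, cr_add_right]
        ring)
      (fun c v w => by
        rw [← map_smul]
        congr 1
        rw [Prod.smul_fst, Prod.smul_snd, cl, crr, smul_sub])
  have hg : ∀ v w, g v w = f (cr φ v.1 w.2 - cr φ w.1 v.2) := fun _ _ => rfl
  have h1 := iso_bound g (AddSubgroup.toZModSubmodule p D) ⊥ (fun v hv w hw => by
    rw [hg]
    exact hf2 (h v hv w hw)) (fun v _ hv => by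
    rw [Submodule.mem_bot]
    have ha : v.1 = 0 := by
      by_contra ha
      apply hf
      apply LinearMap.ext
      intro z
      obtain ⟨b, hb⟩ := exists_cr_eq φ h2 ha z
      have h3 := hv (0, b)
      rw [hg] at h3
      simp only [cr_zero_left, sub_zero] at h3
      rw [hb] at h3
      exact h3
    have hc : v.2 = 0 := by
      by_contra hc
      apply hf
      apply LinearMap.ext
      intro z
      obtain ⟨b, hb⟩ := exists_cr_eq φ h2 hc (-z)
      have h3 := hv (b, 0)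
      rw [hg] at h3
      simp only [cr_zero_right, zero_sub] at h3
      rw [cr_comm, hb, neg_neg] at h3
      exact h3
    exact Prod.ext ha hc)
  rw [Nat.card_prod] at h1
  have h4 : Nat.card (⊥ : Submodule (ZMod p) (K × K)) = 1 := Nat.card_unique
  rw [h4, mul_one, ← sq] at h1
  exact (Nat.pow_le_pow_iff_left two_ne_zero).1 h1

theorem line_of_graph [Finite K] (h2 : (2 : K) ≠ 0) (D : AddSubgroup (K × K)) (hc : Nat.card K ≤ Nat.card D)
    (h : ∀ v ∈ D, ∀ w ∈ D, cr φ v.1 w.2 = cr φ w.1 v.2) :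
    ∃ l m : F, (l ≠ 0 ∨ m ≠ 0) ∧ ∀ v ∈ D, l • v.1 + m • v.2 = 0 := by
  let π : ↥D →+ K := (AddMonoidHom.fst K K).comp D.subtype
  by_cases hπ : Function.Injective π
  · have hb : Function.Bijective π := hπ.bijective_of_nat_card_le hc
    let e := AddEquiv.ofBijective π hb
    let f : K →+ K := ((AddMonoidHom.snd K K).comp D.subtype).comp e.symm.toAddMonoidHom
    have he : ∀ a : K, ((e.symm a : D) : K × K).1 = a := fun a => e.apply_symm_apply a
    have hf : ∀ a : K, f a = ((e.symm a : D) : K × K).2 := fun a => rfl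
    obtain ⟨k, hk⟩ := exists_smul_of_cr φ h2 f fun a b => by
      have h3 := h _ (e.symm a).2 _ (e.symm b).2
      rw [he, he, ← hf, ← hf] at h3
      rw [h3, cr_comm]
    refine ⟨k, -1, Or.inr (neg_ne_zero.2 one_ne_zero), fun v hv => ?_⟩
    have h4 : v.2 = f v.1 := by
      rw [hf]
      have : e.symm v.1 = ⟨v, hv⟩ := by
        rw [AddEquiv.symm_apply_eq]
        rfl
      rw [this]
    rw [h4, hk, neg_one_smul, add_neg_cancel]
  · rw [injective_iff_map_eq_zero] at hπ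
    push Not at hπ
    obtain ⟨v, hv0, hv⟩ := hπ
    have hv1 : v.1.1 = 0 := hv0
    have hv2 : v.1.2 ≠ 0 := fun e => hv (Subtype.ext (Prod.ext hv1 e))
    refine ⟨1, 0, Or.inl one_ne_zero, fun w hw => ?_⟩
    have h3 := h _ v.2 w hw
    rw [hv1, cr_zero_left] at h3
    rw [(cr_eq_zero φ h2 h3.symm).resolve_right hv2, smul_zero, zero_smul, add_zero]

end Model

/-- (A), `p` odd -/
theorem stAo (hphi : StPhi.{u}) (hp2 : StP2.{u}) : StAo.{u} := by
  intro F K _ _ _ _ _ φ _ p _ E Γ hess hp h3 hE hne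
  by_contra hl
  have hpr : p.Prime := hess.pp
  have : Fact p.Prime := ⟨hpr⟩
  have h2 : (2 : K) ≠ 0 := two_ne_of_charP hp
  have hEp : IsPGroup p E := (hess.pgr.to_le le_top)
  obtain ⟨hPE, hcom, -⟩ := hphi E p hpr inferInstance hEp
  have hP : ∀ x ∈ E, ∀ y ∈ E, ⁅x, y⁆ ∈ Phi E := fun x hx y hy => hcom x hx y hy
  have hZ2 : Z2 φ ≤ Phi E := Z2_le_of_not_line hP h3 hE hl
  set Y : Subgroup (Sy φ) := Z3 φ ⊓ Phi E with hY
  -- (P2)
  have hnot : ¬ Q2 φ ≤ E := fun e => hne (le_antisymm hE e)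
  have hnorm : Q2 φ ≤ normalizerIn ⊤ E := by
    have hsub : ∀ z ∈ Q2 φ, ∀ y ∈ E, z * y * z⁻¹ ∈ E := fun z hz y hy => by
      have e : z * y * z⁻¹ = ⁅z, y⁆ * y := by rw [commutatorElement_def]; group
      rw [e]
      exact mul_mem (h3 (comm_Q2_mem hz (hE hy))) hy
    intro x hx
    refine ⟨trivial, Subgroup.mem_normalizer_iff.2 fun y => ⟨hsub x hx y, fun hy => ?_⟩⟩
    have h4 := hsub x⁻¹ ((Q2 φ).inv_mem hx) _ hy
    have e : x⁻¹ * (x * y * x⁻¹) * x⁻¹⁻¹ = y := by group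
    rwa [e] at h4
  have hC : Com (Q2 φ) E (Z3 φ) := fun x hx y hy => comm_Q2_mem hx (hE hy)
  have hb := hp2 hess (Q2 φ) (Q2 φ) (Z3 φ) (Z3 φ) Y Y hnorm hnorm hnot h3 h3 hC hC inf_le_right inf_le_right
  rw [← sq, Nat.pow_le_pow_iff_left two_ne_zero] at hb
  -- the orders
  obtain ⟨D, hD, hDc⟩ := card_fib (A := K × K) E (Z3 φ) h3 (fun x => (x.x1, x.x5))
    (fun x hx y hy => by
      have h6 : y.x6 = 0 := hE hy
      rw [mul_x1, mul_x5, h6, zero_smul, add_zero]
      rfl)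
    (fun x hx => by
      have h6 : x.x6 = 0 := hE hx
      rw [mem_Z3, Prod.mk_eq_zero]
      exact ⟨fun h => ⟨h.1, h6, h.2⟩, fun h => ⟨h.1, h.2.2⟩⟩)
  have hZY : Z2 φ ≤ Y := le_inf Z2_le_Z3 hZ2
  obtain ⟨B, hB, hBc⟩ := card_fib (A := K) Y (Z2 φ) hZY (fun x => x.x3)
    (fun x hx y hy => by
      have h1 : x.x1 = 0 := hx.1.1
      have h6 : y.x6 = 0 := hy.1.2.1
      rw [mul_x3, h1, h6, cr_zero_left, zero_smul, add_zero, add_zero])
    (fun x hx => by
      rw [mem_Z2]
      exact ⟨fun h => ⟨hx.1.1, hx.1.2.1, hx.1.2.2, h⟩, fun h => h.2.2.2⟩)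
  have hr := relIndex_mul_card hE
  have hs := relIndex_mul_card (show Y ≤ Z3 φ from inf_le_left)
  rw [hDc, card_Q2, card_Z3] at hr
  rw [hBc, card_Z2, card_Z3] at hs
  have hq : 0 < Nat.card F := Nat.card_pos
  have hk : 0 < Nat.card K := Nat.card_pos
  have hr' : E.relIndex (Q2 φ) * Nat.card D = Nat.card K ^ 2 := by
    have hpos : 0 < Nat.card K * Nat.card F ^ 2 := by positivity
    apply Nat.eq_of_mul_eq_mul_right hpos
    rw [← mul_assoc] at hr
    rw [hr]
    ring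
  have hs' : Y.relIndex (Z3 φ) * Nat.card B = Nat.card K := by
    have hpos : 0 < Nat.card F ^ 2 := by positivity
    apply Nat.eq_of_mul_eq_mul_right hpos
    rw [← mul_assoc] at hs
    exact hs
  have hDB : Nat.card K * Nat.card B ≤ Nat.card D := by
    have h4 : Nat.card K * (Nat.card K * Nat.card B) ≤ Nat.card K * Nat.card D := by
      calc Nat.card K * (Nat.card K * Nat.card B) = E.relIndex (Q2 φ) * Nat.card D * Nat.card B := by rw [hr']; ring
        _ ≤ Y.relIndex (Z3 φ) * Nat.card D * Nat.card B := by gcongr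
        _ = Y.relIndex (Z3 φ) * Nat.card B * Nat.card D := by ring
        _ = Nat.card K * Nat.card D := by rw [hs']
    exact Nat.le_of_mul_le_mul_left h4 hk
  have hcB : ∀ v ∈ D, ∀ w ∈ D, cr φ v.1 w.2 - cr φ w.1 v.2 ∈ B := by
    intro v hv w hw
    obtain ⟨x, hx, rfl⟩ := (hD v).1 hv
    obtain ⟨y, hy, rfl⟩ := (hD w).1 hw
    exact (hB _).2 ⟨⁅x, y⁆, ⟨comm_Q2_mem (hE hx) (hE hy), hP x hx y hy⟩, comm_Q2_x3 (hE hx) (hE hy)⟩
  have hBne : B ≠ ⊤ := by
    intro e
    apply hne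
    have h4 : Nat.card B = Nat.card K := by
      rw [e]
      exact AddSubgroup.card_top
    rw [h4] at hDB
    apply Subgroup.eq_of_le_of_card_ge hE
    rw [hDc, card_Q2, card_Z3]
    calc Nat.card K ^ 3 * Nat.card F ^ 2 = (Nat.card K * Nat.card K) * (Nat.card K * Nat.card F ^ 2) := by ring
      _ ≤ Nat.card D * (Nat.card K * Nat.card F ^ 2) := by gcongr
  have hDk : Nat.card D ≤ Nat.card K := iso_cr (p := p) h2 B hBne D hcB
  have hB1 : Nat.card B = 1 := by
    have h5 : Nat.card K * Nat.card B ≤ Nat.card K * 1 := by rw [mul_one]; exact hDB.trans hDk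
    have h6 := Nat.le_of_mul_le_mul_left h5 hk
    have h7 : 0 < Nat.card B := Nat.card_pos
    omega
  have hBbot : B = ⊥ := AddSubgroup.card_eq_one.1 hB1
  rw [hB1, mul_one] at hDB
  obtain ⟨l, m, hlm, hz⟩ := line_of_graph h2 D hDB fun v hv w hw => by
    have h8 := hcB v hv w hw
    rw [hBbot, AddSubgroup.mem_bot] at h8
    exact sub_eq_zero.1 h8
  exact hl ⟨l, m, hlm, fun x hx => hz _ ((hD _).2 ⟨x, hx, rfl⟩)⟩

end Cfsg.Agent.H135.TE
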