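import Cfsg.Agent.H802.TE.Defs

/-!
# S5261, part E: tools (helper135)

* `card_fib` : the order of a subgroup as the product of the order of its image in an abelian group and the kernel;
* `iso_bound` : isotropic subspaces;
* `relIndex_mul_card`.
-/

set_option autoImplicit false

namespace Cfsg.Agent.H135.TE

/-- image and kernel of an additive coordinate -/
theorem card_fib {G A : Type*} [Group G] [AddCommGroup A] (E N : Subgroup G) (hNE : N ≤ E) (f : G → A)
    (hf : ∀ x ∈ E, ∀ y ∈ E, f (x * y) = f x + f y) (hN : ∀ x ∈ E, f x = 0 ↔ x ∈ N) :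
    ∃ D : AddSubgroup A, (∀ a, a ∈ D ↔ ∃ x ∈ E, f x = a) ∧ Nat.card E = Nat.card D * Nat.card N := by
  let g : ↥E →* Multiplicative A := MonoidHom.mk' (fun x => Multiplicative.ofAdd (f x)) fun x y => by
    rw [Subgroup.coe_mul, hf x x.2 y y.2]
    rfl
  have hker : g.ker = N.subgroupOf E := by
    ext x
    rw [MonoidHom.mem_ker, Subgroup.mem_subgroupOf, ← hN x x.2]
    exact Iff.rfl
  refine ⟨Subgroup.toAddSubgroup' g.range, ?_, ?_⟩
  · intro a
    constructor
    · rintro ⟨x, hx⟩
      exact ⟨x, x.2, hx⟩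
    · rintro ⟨x, hx, rfl⟩
      exact ⟨⟨x, hx⟩, rfl⟩
  · have h1 := Subgroup.card_mul_index g.ker
    rw [Subgroup.index_ker, hker, Nat.card_congr (Subgroup.subgroupOfEquivOfLe hNE).toEquiv] at h1
    rw [← h1, mul_comm]
    rfl

theorem relIndex_mul_card {G : Type*} [Group G] {H K : Subgroup G} (h : H ≤ K) :
    H.relIndex K * Nat.card H = Nat.card K := by
  have h1 := Subgroup.card_mul_index (H.subgroupOf K)
  rw [Nat.card_congr (Subgroup.subgroupOfEquivOfLe h).toEquiv] at h1
  rw [mul_comm]
  exact h1

/-- isotropic subspaces: `|D|² ≤ |V| |D ∩ rad f|` -/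
theorem iso_bound {p : ℕ} [Fact p.Prime] {V : Type*} [AddCommGroup V] [Module (ZMod p) V] [Finite V]
    (f : V →ₗ[ZMod p] V →ₗ[ZMod p] ZMod p) (D R : Submodule (ZMod p) V) (hD : ∀ x ∈ D, ∀ y ∈ D, f x y = 0)
    (hR : ∀ x ∈ D, (∀ y, f x y = 0) → x ∈ R) : Nat.card D ^ 2 ≤ Nat.card V * Nat.card R := by
  have hfin : Module.Finite (ZMod p) V := Module.Finite.of_finite
  let g : D →ₗ[ZMod p] Module.Dual (ZMod p) (V ⧸ D) :=
    { toFun := fun x => D.liftQ (f x) fun y hy => hD x x.2 y hy
      map_add' := fun x y => by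
        apply LinearMap.ext
        intro z
        obtain ⟨z, rfl⟩ := Submodule.mkQ_surjective D z
        show f ((x : V) + y) z = f x z + f y z
        rw [map_add, LinearMap.add_apply]
      map_smul' := fun a x => by
        apply LinearMap.ext
        intro z
        obtain ⟨z, rfl⟩ := Submodule.mkQ_surjective D z
        show f (a • (x : V)) z = a • f x z
        rw [map_smul, LinearMap.smul_apply] }
  have hg : ∀ (x : D) (z : V), g x (Submodule.mkQ D z) = f x z := fun x z => rfl
  let i : g.ker →ₗ[ZMod p] R :=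
    { toFun := fun x => ⟨x.1, hR _ x.1.2 fun y => by
        have h1 : g x.1 = 0 := x.2
        rw [← hg, h1]
        rfl⟩
      map_add' := fun _ _ => rfl
      map_smul' := fun _ _ => rfl }
  have hi : Function.Injective i := by
    intro x y h
    apply Subtype.ext
    apply Subtype.ext
    exact congrArg (Subtype.val : R → V) h
  have h1 : Module.finrank (ZMod p) g.ker ≤ Module.finrank (ZMod p) R := LinearMap.finrank_le_finrank_of_injective hi
  have h2 : Module.finrank (ZMod p) g.range ≤ Module.finrank (ZMod p) (V ⧸ D) := by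
    rw [← Subspace.dual_finrank_eq (K := ZMod p) (V := V ⧸ D)]
    exact Submodule.finrank_le _
  have h3 := LinearMap.finrank_range_add_finrank_ker g
  have h4 := Submodule.finrank_quotient_add_finrank D
  rw [Module.natCard_eq_pow_finrank (K := ZMod p) (V := D), Module.natCard_eq_pow_finrank (K := ZMod p) (V := V),
    Module.natCard_eq_pow_finrank (K := ZMod p) (V := R), ← pow_mul, ← pow_add]
  apply Nat.pow_le_pow_right
  · rw [Nat.card_zmod]
    exact (Fact.out : p.Prime).pos
  · omega

end Cfsg.Agent.H135.TE
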